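import Cfsg.Agent.R2.E72T.Iso
import Mathlib.GroupTheory.NoncommPiCoprod

/-!
# Products of conjugate root `SL₂`s fixed by a twisted Frobenius map of `E₇(k)`, characteristic 2 (S5934, box T)
-/

set_option autoImplicit false
set_option linter.unusedSectionVars false

namespace Cfsg.Agent.R2.E72T

open Cfsg.Lie Cfsg.Agent.ChevalleyStructure Cfsg.Agent.ChevalleyStructure.Elts
open Cfsg.Agent.ChevalleyStructure.SL2Hom (up lo mem_closure_SL2)
open Cfsg.Agent.Nodes.RGDFoldSL
open Cfsg.Agent.GpExc.Field (glMap coe_glMap glMap_xG)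
open Cfsg.Agent.H420.PG
open scoped MatrixGroups

universe v

/-- the twisted Frobenius map belonging to a word -/
noncomputable def sg (w : List ℕ) : GL chevE7.Idx KK →* GL chevE7.Idx KK :=
  tsig chevE7 (iterateFrobenius KK 2 1) (nwd hE7 w)

/-- its fixed points -/
noncomputable def PW (w : List ℕ) : Subgroup (GL chevE7.Idx KK) := P7 (nwd hE7 w)

theorem mem_PW {w : List ℕ} {g : GL chevE7.Idx KK} : g ∈ PW w ↔ g ∈ chevE7.group KK ∧ sg w g = g := Iff.rfl

/-- **`E₇(2)` is the group of the fixed points.** -/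
theorem isoW (w : List ℕ) : Nonempty (↥(PW w) ≃* ↥(chevE7.group (ZMod 2))) := iso7 (nwd_mem hE7 w)

/-- the Frobenius map -/
noncomputable abbrev φ2 : KK →+* KK := iterateFrobenius KK 2 1

theorem φ2_apply (a : KK) : φ2 a = a ^ 2 := by
  rw [φ2, iterateFrobenius_def, pow_one]

theorem sg_x {w : List ℕ} (hw : ∀ i ∈ w, i < chevE7.rank) {s : ℕ} (hs : s < 126) (t : KK) :
    sg w (xG hE7 s t) = xG hE7 (w.foldr chevE7.reflectRoot s) (t ^ 2) := by
  rw [sg, tsig_apply, glMap_xG, ← φ2_apply]
  exact (nwd_conj hE7 hw (show s < chevE7.nroots from hs) _).1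

theorem neg_lt7 {r : ℕ} (hr : r < 126) : chevE7.neg r < 126 := NPerm.neg_lt hE7 (show r < chevE7.nroots from hr)

theorem psi_mem_group {r : ℕ} (hr : r < 126) {k : Type*} [Field k] (g : SL(2, k)) :
    psi hE7 k r g ∈ chevE7.group k := by
  have h1 := psi_mem hE7 (show r < chevE7.nroots from hr) g
  refine (sup_le ?_ ?_ : chevE7.rootSubgroup k r ⊔ chevE7.rootSubgroup k (chevE7.neg r) ≤ chevE7.group k) h1
  · intro x hx
    obtain ⟨t, rfl⟩ := (mem_rootSubgroup_iff hE7 r x).1 hx
    exact xG_mem_group hE7 r t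
  · intro x hx
    obtain ⟨t, rfl⟩ := (mem_rootSubgroup_iff hE7 _ x).1 hx
    exact xG_mem_group hE7 _ t

theorem sg_ps {w : List ℕ} (hw : ∀ i ∈ w, i < chevE7.rank) {r s : ℕ} (hr : r < 126)
    (h1 : w.foldr chevE7.reflectRoot r = s) (h2 : w.foldr chevE7.reflectRoot (chevE7.neg r) = chevE7.neg s)
    (hs : s < 126) (g : SL(2, KK)) :
    sg w (psi hE7 KK r g) = psi hE7 KK s (Matrix.SpecialLinearGroup.map φ2 g) := by
  subst h1
  exact tsig_psi (ρ := w.foldr chevE7.reflectRoot) hE7 (show r < chevE7.nroots from hr)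
    (show w.foldr chevE7.reflectRoot r < chevE7.nroots from hs) h2.symm
    (fun t => by rw [sg_x hw hr, φ2_apply]) (fun t => by rw [sg_x hw (neg_lt7 hr), φ2_apply]) g

/-! ### products -/

section Cyc

variable {m : ℕ} (r : Fin m → ℕ)

/-- the roots are orthogonal -/
def Orth : Bool := (List.finRange m).all fun i => (List.finRange m).all fun j => i == j || okP chevE7 (r i) (r j)

variable {r}

theorem orth_comm (h : Orth r = true) {i j : Fin m} (hij : i ≠ j) (g g' : SL(2, KK)) :
    Commute (psi hE7 KK (r i) g) (psi hE7 KK (r j) g') := by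
  have h1 := List.all_eq_true.1 (List.all_eq_true.1 h i (List.mem_finRange i)) j (List.mem_finRange j)
  rw [Bool.or_eq_true] at h1
  rcases h1 with h1 | h1
  · rw [beq_iff_eq] at h1
    exact absurd h1 hij
  · exact psi_comm_psi hE7 h1 g g'

theorem orth_pw (h : Orth r = true) :
    Pairwise fun i j => ∀ (x y : SL(2, KK)), Commute ((psi hE7 KK (r i)) x) ((psi hE7 KK (r j)) y) :=
  fun _ _ hij x y => orth_comm h hij x y

/-- the product of the root `SL₂`s -/
noncomputable def Psi (h : Orth r = true) : (Fin m → SL(2, KK)) →* GL chevE7.Idx KK :=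
  MonoidHom.noncommPiCoprod (fun i => psi hE7 KK (r i)) (orth_pw h)

theorem Psi_single (h : Orth r = true) (i : Fin m) (g : SL(2, KK)) :
    Psi h (Pi.mulSingle i g) = psi hE7 KK (r i) g :=
  MonoidHom.noncommPiCoprod_mulSingle _ (hcomm := orth_pw h) i g

/-- the roots are permuted cyclically -/
def CycB (w : List ℕ) (r : Fin m → ℕ) (next : Fin m → Fin m) : Bool :=
  (List.finRange m).all fun i => decide (r i < 126) && ((w.foldr chevE7.reflectRoot (r i) == r (next i)) &&
    (w.foldr chevE7.reflectRoot (chevE7.neg (r i)) == chevE7.neg (r (next i))))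

theorem cyc_spec {w : List ℕ} {next : Fin m → Fin m} (h : CycB w r next = true) (i : Fin m) :
    r i < 126 ∧ w.foldr chevE7.reflectRoot (r i) = r (next i) ∧
      w.foldr chevE7.reflectRoot (chevE7.neg (r i)) = chevE7.neg (r (next i)) := by
  have h1 := List.all_eq_true.1 h i (List.mem_finRange i)
  simp only [Bool.and_eq_true, decide_eq_true_eq, beq_iff_eq] at h1
  exact h1

/-- **The twisted Frobenius map on the product.** -/
theorem sg_Psi {w : List ℕ} (hw : ∀ i ∈ w, i < chevE7.rank) (h : Orth r = true) {next prev : Fin m → Fin m}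
    (hc : CycB w r next = true) (hnp : ∀ i, next (prev i) = i) (hpn : ∀ i, prev (next i) = i) (x : Fin m → SL(2, KK)) :
    sg w (Psi h x) = Psi h fun i => Matrix.SpecialLinearGroup.map φ2 (x (prev i)) := by
  let S : (Fin m → SL(2, KK)) →* (Fin m → SL(2, KK)) :=
    { toFun := fun x i => Matrix.SpecialLinearGroup.map φ2 (x (prev i))
      map_one' := by funext i; exact map_one _
      map_mul' := fun a b => by funext i; exact map_mul _ _ _ }
  have key : (sg w).comp (Psi h) = (Psi h).comp S := by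
    refine MonoidHom.pi_ext fun i g => ?_
    have h1 : S (Pi.mulSingle i g) = Pi.mulSingle (next i) (Matrix.SpecialLinearGroup.map φ2 g) := by
      funext j
      show Matrix.SpecialLinearGroup.map φ2 ((Pi.mulSingle i g : Fin m → SL(2, KK)) (prev j)) = _
      by_cases hj : j = next i
      · subst hj
        rw [hpn, Pi.mulSingle_eq_same, Pi.mulSingle_eq_same]
      · have h2 : prev j ≠ i := fun h3 => hj (by rw [← h3, hnp])
        rw [Pi.mulSingle_eq_of_ne h2, Pi.mulSingle_eq_of_ne hj, map_one]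
    rw [MonoidHom.comp_apply, MonoidHom.comp_apply, h1, Psi_single, Psi_single]
    obtain ⟨c1, c2, c3⟩ := cyc_spec hc i
    exact sg_ps hw c1 c2 c3 (cyc_spec hc _).1 g
  exact DFunLike.congr_fun key x

theorem Psi_mem (h : Orth r = true) (hr : ∀ i, r i < 126) (x : Fin m → SL(2, KK)) : Psi h x ∈ chevE7.group KK := by
  have h1 : (Psi h).range ≤ chevE7.group KK := by
    have h2 := MonoidHom.noncommPiCoprod_range (ϕ := fun i => psi hE7 KK (r i)) (hcomm := orth_pw h)
    rw [Psi, h2]
    refine iSup_le fun i => ?_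
    rintro _ ⟨g, rfl⟩
    exact psi_mem_group (hr i) g
  exact h1 ⟨x, rfl⟩

end Cyc

/-! ### the diagonal `SL₂(2^m)` -/

section Diag

variable {K : Type v} [Field K] [CharP K 2] (f : K →+* KK)

/-- the conjugates of the embedding -/
noncomputable def fr (i : ℕ) : K →+* KK := f.comp (iterateFrobenius K 2 i)

theorem fr_apply (i : ℕ) (a : K) : fr f i a = f (a ^ 2 ^ i) := rfl

theorem fr_succ (i : ℕ) (a : K) : φ2 (fr f i a) = fr f (i + 1) a := by
  rw [φ2_apply, fr_apply, fr_apply, ← map_pow, ← pow_mul, ← pow_succ]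

theorem fr_zero (a : K) : fr f 0 a = f a := by rw [fr_apply, pow_zero, pow_one]

theorem map_fr (i : ℕ) (g : SL(2, K)) :
    Matrix.SpecialLinearGroup.map φ2 (Matrix.SpecialLinearGroup.map (fr f i) g) =
      Matrix.SpecialLinearGroup.map (fr f (i + 1)) g := by
  apply Subtype.ext
  ext a b
  exact fr_succ f i _

theorem fr_card [Fintype K] {m : ℕ} (hK : Fintype.card K = 2 ^ m) : fr f m = fr f 0 := by
  ext a
  rw [fr_apply, fr_zero, ← hK, FiniteField.pow_card]

/-- the diagonal map -/
noncomputable def dg (m : ℕ) : SL(2, K) →* (Fin m → SL(2, KK)) :=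
  { toFun := fun g i => Matrix.SpecialLinearGroup.map (fr f i) g
    map_one' := by funext i; exact map_one _
    map_mul' := fun a b => by funext i; exact map_mul _ _ _ }

theorem dg_apply (m : ℕ) (g : SL(2, K)) (i : Fin m) : dg f m g i = Matrix.SpecialLinearGroup.map (fr f i) g := rfl

/-- the image of `SL₂(2^m)` -/
noncomputable def uu {m : ℕ} {r : Fin m → ℕ} (h : Orth r = true) : SL(2, K) →* GL chevE7.Idx KK :=
  (Psi h).comp (dg f m)

/-- **The image of `SL₂(2^m)` is fixed.** -/
theorem uu_fix [Fintype K] {m : ℕ} [NeZero m] (hK : Fintype.card K = 2 ^ m) {r : Fin m → ℕ} (h : Orth r = true)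
    {w : List ℕ} (hw : ∀ i ∈ w, i < chevE7.rank) (hc : CycB w r (fun i => i + 1) = true) (g : SL(2, K)) :
    sg w (uu f h g) = uu f h g := by
  have e1 := sg_Psi (prev := fun i => i - 1) hw h hc (fun i => by simp) (fun i => by simp) (dg f m g)
  have e2 : (fun i => Matrix.SpecialLinearGroup.map φ2 (dg f m g (i - 1))) = dg f m g := by
    funext i
    rw [dg_apply, dg_apply, map_fr]
    by_cases hi : i = 0
    · subst hi
      have h1 : ((0 - 1 : Fin m) : ℕ) + 1 = m := by
        have hm : 0 < m := Nat.pos_of_ne_zero (NeZero.ne m)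
        obtain ⟨k, rfl⟩ : ∃ k, m = k + 1 := ⟨m - 1, by omega⟩
        have h2 : ((0 - 1 : Fin (k + 1)) : ℕ) = k := by rw [zero_sub]; exact Fin.coe_neg_one
        rw [h2]
      rw [h1, fr_card f hK]
      rfl
    · have h1 : ((i - 1 : Fin m) : ℕ) + 1 = i := by
        have := Fin.val_sub_one_of_ne_zero hi
        have h2 : (i : ℕ) ≠ 0 := fun h => hi (Fin.ext (by simpa using h))
        omega
      rw [h1]
  rw [e2] at e1
  exact e1

end Diag

end Cfsg.Agent.R2.E72T
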