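import Cfsg.Agent.R2.E72T.Gen
import Cfsg.Agent.H974.ExcE
import Cfsg.Agent.KFacts.RgdCent
import Cfsg.Agent.BpExc.TorChev

/-!
# Centralisers of root elements in `E₇(K)`, `K` finite of characteristic 2 (S5934, box T)

`cent_one` : an element commuting with `x_r(1)`, `r ∈ L`, `L = -L`, is a product of a torus element and an element of
the group generated by the root groups orthogonal to `L`.
-/

set_option autoImplicit false
set_option linter.unusedSectionVars false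

namespace Cfsg.Agent.R2.E72T

open CoxeterSystem Cfsg.Agent.ChevalleyStructure.CoxeterGeom Cfsg.Agent.Tits.Roots Cfsg.Agent.Tits.Core
  Cfsg.Agent.Tits.RootComb Cfsg.Agent.Nodes.Comb Cfsg.Agent.Nodes.Reps Cfsg.Agent.Nodes.BNOf
  Cfsg.Agent.Nodes.StabComb Cfsg.Agent.Nodes.Bruhat Cfsg.Agent.Nodes.LeviDec Cfsg.Agent.Nodes.OppDec
  Cfsg.Agent.Nodes.Coroot
open Cfsg.Lie Cfsg.Agent.ChevalleyStructure Cfsg.Agent.ChevalleyStructure.Elts
  Cfsg.Agent.ChevalleyStructure.CoxeterGeomTypes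
  Cfsg.Agent.ChevalleyStructure.NPerm Cfsg.Agent.ChevalleyStructure.RootVec
open Cfsg.Agent.Nodes Cfsg.Agent.Nodes.RGDChev Cfsg.Agent.KFacts.RgdSL Cfsg.Agent.KFacts.RgdCent
  Cfsg.Agent.KFacts.RgdTI Cfsg.Agent.KFacts.RgdPar
open Cfsg.Agent.KFacts.RgdChevCoord
open Cfsg.Agent.KFacts.RgdField (Coords Coord)
open Cfsg.Agent.H129.TorusChar (cX isMC_cX cX_vec cX_inj IsMC)
open Cfsg.Agent.H974.Exc (sl_E7 cf cpr_of isRoot_of)

universe u

abbrev cE := CoxeterMatrix.E₇.toCoxeterSystem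
abbrev hCE := hp7.isCartan

instance finW : Finite CoxeterMatrix.E₇.Group := finite_W hp7 cE

theorem slE : SL cE hCE := sl_E7 cE

/-- the pairing of two roots -/
def pr7 (r s : ℕ) : ℤ := cf (cartanOf chevE7 7) (vec chevE7 7 r) (vec chevE7 7 s)

theorem isRoot7 {r : ℕ} (hr : r < 126) : IsRoot cE hCE (vec chevE7 7 r) :=
  isRoot_vec hp7 cE (show r < chevE7.nroots from hr)

theorem cpr7 {r s : ℕ} (hs : s < 126) : cpr cE hCE (vec chevE7 7 r) (vec chevE7 7 s) = pr7 r s :=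
  cpr_of hp7 slE _ (isRoot7 hs) rfl

theorem adjE : ∀ r ∈ List.range 126, ∃ s ∈ List.range 126, pr7 r s = 1 := by
  decide +kernel

section K

variable {K : Type u} [Field K] [Finite K] [CharP K 2]

theorem RK : RGD cE hCE 2 (TT chevE7 K) (nc hp7 K) (XX chevE7 7 K) := rgd (K := K) hp7 cE 2

theorem CK : Coords cE hCE (TT chevE7 K) (nc hp7 K) (XX chevE7 7 K) (xc hp7) (ch hp7) := coords (K := K) hp7 cE 2

theorem lrK (a : Fin 7 → ℤ) (ha : IsRoot cE hCE a) : LR (RK (K := K)) a := by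
  refine lr_all RK slE (fun a ha => ?_) a ha
  obtain ⟨r, hr, rfl⟩ := (isRoot_iff hp7 cE a).1 ha
  obtain ⟨s, hs, h1⟩ := adjE r (List.mem_range.2 hr)
  exact ⟨vec chevE7 7 s, isRoot7 (List.mem_range.1 hs), by rw [cpr7 (List.mem_range.1 hs)]; exact h1⟩

/-- the subgroup generated by root groups -/
def Rt (K : Type u) [Field K] (L : List ℕ) : Subgroup ↥(chevE7.group K) :=
  Subgroup.closure {g | ∃ r ∈ L, r < 126 ∧ ∃ t : K, (g : GL chevE7.Idx K) = xG hE7 r t}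

theorem Sup_le_Rt {S : Set (Fin 7 → ℤ)} {L : List ℕ} (h : ∀ r < 126, vec chevE7 7 r ∈ S → r ∈ L)
    (hS : ∀ a ∈ S, IsRoot cE hCE a) : RGD.Sup (XX chevE7 7 K) S ≤ Rt K L := by
  refine RGD.Sup_le fun a ha => ?_
  obtain ⟨r, hr, rfl⟩ := (isRoot_iff hp7 cE a).1 (hS a ha)
  intro u hu
  rw [Subgroup.mem_subgroupOf, XV_vec hp7 K hr, mem_rootSubgroup_iff hE7] at hu
  obtain ⟨t, ht⟩ := hu
  exact Subgroup.subset_closure ⟨r, h r hr ha, hr, t, ht⟩

/-- the value of the root `r` on a torus element -/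
noncomputable abbrev rv (t : ↥(chevE7.group K)) (r : ℕ) : K := cX hp7 t (vec chevE7 7 r)

theorem rv_act {t : ↥(chevE7.group K)} (ht : t ∈ TT chevE7 K) {r : ℕ} (hr : r < 126) (a : K) :
    (t : GL chevE7.Idx K) * xG hE7 r a * (t : GL chevE7.Idx K)⁻¹ = xG hE7 r (rv t r * a) := by
  have h1 := congrArg Subtype.val ((act hp7 (show r < chevE7.nroots from hr) ht).2 a)
  rw [Subgroup.coe_mul, Subgroup.coe_mul, Subgroup.coe_inv, coe_xc hp7 (show r < chevE7.nroots from hr),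
    coe_xc hp7 (show r < chevE7.nroots from hr)] at h1
  rw [rv, cX_vec hp7 ht (show r < chevE7.nroots from hr)]
  exact h1

theorem rv_eq_one {t : ↥(chevE7.group K)} (ht : t ∈ TT chevE7 K) {r : ℕ} (hr : r < 126)
    (h : (t : GL chevE7.Idx K) * xG hE7 r (1 : K) = xG hE7 r (1 : K) * (t : GL chevE7.Idx K)) : rv t r = 1 := by
  have h1 := rv_act ht hr 1
  rw [mul_inv_eq_iff_eq_mul.2 h, mul_one] at h1
  exact (xG_injective hE7 (show r < chevE7.nroots from hr) h1).symm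

/-- **Elements commuting with root elements.** -/
theorem cent_one {L M : List ℕ} (hL : ∀ r ∈ L, r < 126) (hneg : ∀ r ∈ L, chevE7.neg r ∈ L)
    (hM : ∀ b < 126, (∀ r ∈ L, 0 ≤ pr7 b r) → b ∈ M) {g : ↥(chevE7.group K)}
    (hg : ∀ r ∈ L, (g : GL chevE7.Idx K) * xG hE7 r (1 : K) = xG hE7 r (1 : K) * (g : GL chevE7.Idx K)) :
    ∃ t ∈ TT chevE7 K, (∀ r ∈ L, rv t r = 1) ∧ ∃ q ∈ Rt K M, g = t * q := by
  classical
  let Ψ : Set (Fin 7 → ℤ) := {a | ∃ r ∈ L, vec chevE7 7 r = a}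
  have hΨ : ∀ a ∈ Ψ, IsRoot cE hCE a := by
    rintro a ⟨r, hr, rfl⟩
    exact isRoot7 (hL r hr)
  have hgG : g ∈ GG cE hCE (TT chevE7 K) (XX chevE7 7 K) := by
    rw [Cfsg.Agent.BpExc.TorChev.GG_top hp7 cE]; exact Subgroup.mem_top g
  let F : List ((Fin 7 → ℤ) →+ ℤ) := L.map fun r => if ha : IsRoot cE hCE (vec chevE7 7 r) then ell cE hCE ha else 0
  have hz : ∀ r ∈ L, xc hp7 (vec chevE7 7 r) (1 : K) ∈ XX chevE7 7 K (vec chevE7 7 r) := fun r hr =>
    ((CK.coord _ (isRoot7 (hL r hr))).mem _).2 ⟨1, rfl⟩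
  have hz1 : ∀ r ∈ L, xc hp7 (vec chevE7 7 r) (1 : K) ≠ 1 := by
    intro r hr h0
    have h1 := congrArg Subtype.val h0
    rw [coe_xc hp7 (show r < chevE7.nroots from hL r hr)] at h1
    exact one_ne_zero ((xG_eq_one_iff hE7 (show r < chevE7.nroots from hL r hr) _).1 h1)
  have hgz : ∀ r ∈ L, g * xc hp7 (vec chevE7 7 r) (1 : K) = xc hp7 (vec chevE7 7 r) (1 : K) * g := by
    intro r hr
    apply Subtype.ext
    rw [Subgroup.coe_mul, Subgroup.coe_mul, coe_xc hp7 (show r < chevE7.nroots from hL r hr)]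
    exact hg r hr
  have h1 := inter (RK (K := K)) F hgG (by
    intro f hf
    rw [List.mem_map] at hf
    obtain ⟨r, hr, rfl⟩ := hf
    rw [dif_pos (isRoot7 (hL r hr)), half_ell]
    exact (lrK _ (isRoot7 (hL r hr))).le_PS_of_comm hgG (hz r hr) (hz1 r hr) (hgz r hr))
  have hs1 : {x | IsRoot cE hCE x ∧ ∀ f ∈ F, 0 ≤ f x} ⊆ Star cE hCE Ψ := by
    rintro x ⟨hx1, hx2⟩
    refine ⟨hx1, ?_⟩
    rintro a ⟨r, hr, rfl⟩
    exact hx2 (ell cE hCE (isRoot7 (hL r hr))) (by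
      rw [List.mem_map]
      exact ⟨r, hr, by rw [dif_pos (isRoot7 (hL r hr))]⟩)
  have h2 : g ∈ ((PS (TT chevE7 K) (XX chevE7 7 K) (Star cE hCE Ψ) : Subgroup ↥(chevE7.group K)) :
    Set ↥(chevE7.group K)) := PS_mono hs1 h1.1
  have hT : TT chevE7 K ≤ Subgroup.normalizer (RGD.Sup (XX chevE7 7 K) (Star cE hCE Ψ) : Set ↥(chevE7.group K)) :=
    (RK (K := K)).T_le_normalizer fun x hx => hx.1
  unfold PS at h2
  rw [Subgroup.coe_mul_of_left_le_normalizer_right _ _ hT, Set.mem_mul] at h2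
  obtain ⟨t, ht, q, hq, rfl⟩ := h2
  refine ⟨t, ht, fun r hr => ?_, q, Sup_le_Rt (fun b hb hbs => hM b hb fun r hr => ?_) (fun a ha => ha.1) hq, rfl⟩
  · have hqz : q * xc hp7 (vec chevE7 7 r) (1 : K) = xc hp7 (vec chevE7 7 r) (1 : K) * q := by
      have h4 : RGD.Sup (XX chevE7 7 K) (Star cE hCE Ψ) ≤
          Subgroup.centralizer (XX chevE7 7 K (vec chevE7 7 r) : Set ↥(chevE7.group K)) := by
        refine RGD.Sup_le fun b hb => ?_
        intro u hu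
        rw [Subgroup.mem_centralizer_iff]
        intro v hv
        exact ((lrK _ (isRoot7 (hL r hr))).comm b hb.1 (hb.2 _ ⟨r, hr, rfl⟩) u hu v hv).symm
      exact ((Subgroup.mem_centralizer_iff.1 (h4 hq)) _ (hz r hr)).symm
    have h5 := hgz r hr
    have h6 : t * xc hp7 (vec chevE7 7 r) (1 : K) * q = xc hp7 (vec chevE7 7 r) (1 : K) * t * q := by
      rw [mul_assoc, ← hqz, ← mul_assoc, h5, mul_assoc]
    have h7 := congrArg Subtype.val (mul_right_cancel h6)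
    rw [Subgroup.coe_mul, Subgroup.coe_mul, coe_xc hp7 (show r < chevE7.nroots from hL r hr)] at h7
    exact rv_eq_one ht (hL r hr) h7
  · have := hbs.2 _ ⟨r, hr, rfl⟩
    rwa [cpr7 (hL r hr)] at this

end K

end Cfsg.Agent.R2.E72T
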