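import Cfsg.Agent.R2.E72T.Gen

/-!
# Products of conjugate root `SL₂`s fixed by a twisted Frobenius map, over any field of characteristic 2 (S5934, box T)
-/

set_option autoImplicit false
set_option linter.unusedSectionVars false

namespace Cfsg.Agent.R2.E72T

open Cfsg.Lie Cfsg.Agent.ChevalleyStructure Cfsg.Agent.ChevalleyStructure.Elts
open Cfsg.Agent.ChevalleyStructure.SL2Hom (up lo mem_closure_SL2)
open Cfsg.Agent.Nodes.RGDFoldSL
open Cfsg.Agent.GpExc.Field (glMap coe_glMap glMap_xG)
open Cfsg.Agent.H420.PG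
open scoped MatrixGroups

universe u v

/-! ### products -/

section Cyc

variable {k : Type u} [Field k] [CharP k 2] {m : ℕ} (r : Fin m → ℕ)

variable {r}

theorem orthk_comm (h : Orth r = true) {i j : Fin m} (hij : i ≠ j) (g g' : SL(2, k)) :
    Commute (psi hE7 k (r i) g) (psi hE7 k (r j) g') := by
  have h1 := List.all_eq_true.1 (List.all_eq_true.1 h i (List.mem_finRange i)) j (List.mem_finRange j)
  rw [Bool.or_eq_true] at h1
  rcases h1 with h1 | h1
  · rw [beq_iff_eq] at h1
    exact absurd h1 hij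
  · exact psi_comm_psi hE7 h1 g g'

theorem orthk_pw (h : Orth r = true) :
    Pairwise fun i j => ∀ (x y : SL(2, k)), Commute ((psi hE7 k (r i)) x) ((psi hE7 k (r j)) y) :=
  fun _ _ hij x y => orthk_comm h hij x y

/-- the product of the root `SL₂`s -/
noncomputable def Psik (h : Orth r = true) : (Fin m → SL(2, k)) →* GL chevE7.Idx k :=
  MonoidHom.noncommPiCoprod (fun i => psi hE7 k (r i)) (orthk_pw h)

theorem Psik_single (h : Orth r = true) (i : Fin m) (g : SL(2, k)) :
    Psik h (Pi.mulSingle i g) = psi hE7 k (r i) g :=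
  MonoidHom.noncommPiCoprod_mulSingle _ (hcomm := orthk_pw h) i g

/-- **The twisted Frobenius map on the product.** -/
theorem sgk_Psik {w : List ℕ} (hw : ∀ i ∈ w, i < chevE7.rank) (h : Orth r = true) {next prev : Fin m → Fin m}
    (hc : CycB w r next = true) (hnp : ∀ i, next (prev i) = i) (hpn : ∀ i, prev (next i) = i) (x : Fin m → SL(2, k)) :
    sgk k w (Psik h x) = Psik h fun i => Matrix.SpecialLinearGroup.map (φk k) (x (prev i)) := by
  let S : (Fin m → SL(2, k)) →* (Fin m → SL(2, k)) :=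
    { toFun := fun x i => Matrix.SpecialLinearGroup.map (φk k) (x (prev i))
      map_one' := by funext i; exact map_one _
      map_mul' := fun a b => by funext i; exact map_mul _ _ _ }
  have key : (sgk k w).comp (Psik h) = (Psik h).comp S := by
    refine MonoidHom.pi_ext fun i g => ?_
    have h1 : S (Pi.mulSingle i g) = Pi.mulSingle (next i) (Matrix.SpecialLinearGroup.map (φk k) g) := by
      funext j
      show Matrix.SpecialLinearGroup.map (φk k) ((Pi.mulSingle i g : Fin m → SL(2, k)) (prev j)) = _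
      by_cases hj : j = next i
      · subst hj
        rw [hpn, Pi.mulSingle_eq_same, Pi.mulSingle_eq_same]
      · have h2 : prev j ≠ i := fun h3 => hj (by rw [← h3, hnp])
        rw [Pi.mulSingle_eq_of_ne h2, Pi.mulSingle_eq_of_ne hj, map_one]
    rw [MonoidHom.comp_apply, MonoidHom.comp_apply, h1, Psik_single, Psik_single]
    obtain ⟨c1, c2, c3⟩ := cyc_spec hc i
    exact sgk_ps hw c1 c2 c3 (cyc_spec hc _).1 g
  exact DFunLike.congr_fun key x

theorem Psik_mem (h : Orth r = true) (hr : ∀ i, r i < 126) (x : Fin m → SL(2, k)) : Psik h x ∈ chevE7.group k := by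
  have h1 : (Psik h).range ≤ chevE7.group k := by
    have h2 := MonoidHom.noncommPiCoprod_range (ϕ := fun i => psi hE7 k (r i)) (hcomm := orthk_pw h)
    rw [Psik, h2]
    refine iSup_le fun i => ?_
    rintro _ ⟨g, rfl⟩
    exact psi_mem_group (hr i) g
  exact h1 ⟨x, rfl⟩

end Cyc

/-! ### the diagonal `SL₂(2^m)` -/

section Diag

variable {k : Type u} [Field k] [CharP k 2] {K : Type v} [Field K] [CharP K 2] (f : K →+* k)

/-- the conjugates of the embedding -/
noncomputable def frk (i : ℕ) : K →+* k := f.comp (iterateFrobenius K 2 i)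

theorem frk_apply (i : ℕ) (a : K) : frk f i a = f (a ^ 2 ^ i) := rfl

theorem frk_succ (i : ℕ) (a : K) : (φk k) (frk f i a) = frk f (i + 1) a := by
  rw [φk_apply, frk_apply, frk_apply, ← map_pow, ← pow_mul, ← pow_succ]

theorem frk_zero (a : K) : frk f 0 a = f a := by rw [frk_apply, pow_zero, pow_one]

theorem mapk_fr (i : ℕ) (g : SL(2, K)) :
    Matrix.SpecialLinearGroup.map (φk k) (Matrix.SpecialLinearGroup.map (frk f i) g) =
      Matrix.SpecialLinearGroup.map (frk f (i + 1)) g := by
  apply Subtype.ext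
  ext a b
  exact frk_succ f i _

theorem frk_card [Fintype K] {m : ℕ} (hK : Fintype.card K = 2 ^ m) : frk f m = frk f 0 := by
  ext a
  rw [frk_apply, frk_zero, ← hK, FiniteField.pow_card]

/-- the diagonal map -/
noncomputable def dgk (m : ℕ) : SL(2, K) →* (Fin m → SL(2, k)) :=
  { toFun := fun g i => Matrix.SpecialLinearGroup.map (frk f i) g
    map_one' := by funext i; exact map_one _
    map_mul' := fun a b => by funext i; exact map_mul _ _ _ }

theorem dgk_apply (m : ℕ) (g : SL(2, K)) (i : Fin m) : dgk f m g i = Matrix.SpecialLinearGroup.map (frk f i) g := rfl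

/-- the image of `SL₂(2^m)` -/
noncomputable def uuk {m : ℕ} {r : Fin m → ℕ} (h : Orth r = true) : SL(2, K) →* GL chevE7.Idx k :=
  (Psik h).comp (dgk f m)

/-- **The image of `SL₂(2^m)` is fixed.** -/
theorem uuk_fix [Fintype K] {m : ℕ} [NeZero m] (hK : Fintype.card K = 2 ^ m) {r : Fin m → ℕ} (h : Orth r = true)
    {w : List ℕ} (hw : ∀ i ∈ w, i < chevE7.rank) (hc : CycB w r (fun i => i + 1) = true) (g : SL(2, K)) :
    sgk k w (uuk f h g) = uuk f h g := by
  have e1 := sgk_Psik (prev := fun i => i - 1) hw h hc (fun i => by simp) (fun i => by simp) (dgk f m g)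
  have e2 : (fun i => Matrix.SpecialLinearGroup.map (φk k) (dgk f m g (i - 1))) = dgk f m g := by
    funext i
    rw [dgk_apply, dgk_apply, mapk_fr]
    by_cases hi : i = 0
    · subst hi
      have h1 : ((0 - 1 : Fin m) : ℕ) + 1 = m := by
        have hm : 0 < m := Nat.pos_of_ne_zero (NeZero.ne m)
        obtain ⟨k, rfl⟩ : ∃ k, m = k + 1 := ⟨m - 1, by omega⟩
        have h2 : ((0 - 1 : Fin (k + 1)) : ℕ) = k := by rw [zero_sub]; exact Fin.coe_neg_one
        rw [h2]
      rw [h1, frk_card f hK]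
      rfl
    · have h1 : ((i - 1 : Fin m) : ℕ) + 1 = i := by
        have := Fin.val_sub_one_of_ne_zero hi
        have h2 : (i : ℕ) ≠ 0 := fun h => hi (Fin.ext (by simpa using h))
        omega
      rw [h1]
  rw [e2] at e1
  exact e1

end Diag

section Genk

variable {k : Type u} [Field k] [CharP k 2] {m : ℕ} {r : Fin m → ℕ}

theorem Psik_mem_of (h : Orth r = true) {x : Fin m → SL(2, k)} (S : Subgroup (GL chevE7.Idx k))
    (hS : ∀ i, psi hE7 k (r i) (x i) ∈ S) : Psik h x ∈ S := by
  unfold Psik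
  rw [MonoidHom.noncommPiCoprod_apply]
  exact Subgroup.noncommProd_mem _ _ fun i _ => hS i

variable {K : Type v} [Field K] [CharP K 2] (f : K →+* k)

/-- Nontriviality, by the action on a root element. -/
theorem uuk_up_ne [NeZero m] (h : Orth r = true) (hr : ∀ i, r i < 126) {s c : ℕ}
    (hs : okB chevE7 (r 0) s [(c, 1, 1)] = true) (hc : c < 126) (ho : ∀ i, i ≠ 0 → okB chevE7 (r i) s [] = true) :
    uuk f h (up 1) ≠ 1 := by
  intro h1
  let x : Fin m → SL(2, k) := dgk f m (up 1)
  have hx : ∀ i, x i = up 1 := by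
    intro i
    show Matrix.SpecialLinearGroup.map (frk f i) (up 1) = up 1
    rw [map_up, map_one]
  have h2 : x = Pi.mulSingle 0 (up 1) * (x * (Pi.mulSingle 0 (up 1))⁻¹) := by
    funext i
    rw [Pi.mul_apply, Pi.mul_apply, Pi.inv_apply]
    by_cases hi : i = 0
    · subst hi
      rw [Pi.mulSingle_eq_same, hx]
      group
    · rw [Pi.mulSingle_eq_of_ne hi]
      group
  have h3 : Psik h x = xG hE7 (r 0) 1 * Psik h (x * (Pi.mulSingle 0 (up 1))⁻¹) := by
    conv_lhs => rw [h2]
    rw [map_mul, Psik_single, psi_up hE7 (show r 0 < chevE7.nroots from hr 0)]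
  have h4 : Psik h (x * (Pi.mulSingle 0 (up 1))⁻¹) ∈ Subgroup.centralizer {xG hE7 s (1 : k)} := by
    refine Psik_mem_of h _ fun i => ?_
    rw [Subgroup.mem_centralizer_singleton_iff]
    by_cases hi : i = 0
    · subst hi
      rw [Pi.mul_apply, Pi.inv_apply, Pi.mulSingle_eq_same, hx, mul_inv_cancel, map_one, one_mul, mul_one]
    · rw [Pi.mul_apply, Pi.inv_apply, Pi.mulSingle_eq_of_ne hi, hx, inv_one, mul_one,
        psi_up hE7 (show r i < chevE7.nroots from hr i)]
      exact (comm_of hE7 (ho i hi) 1 1).eq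
  have h5 : Psik h x = 1 := h1
  rw [h3] at h5
  have h6 : Commute (xG hE7 (r 0) (1 : k)) (xG hE7 s 1) := by
    have h7 : xG hE7 (r 0) (1 : k) = (Psik h (x * (Pi.mulSingle 0 (up 1))⁻¹))⁻¹ := eq_inv_of_mul_eq_one_left h5
    rw [h7]
    exact (show Commute _ _ from Subgroup.mem_centralizer_singleton_iff.1 h4).inv_left
  have h8 := rel (F := k) hE7 hs 1 1
  rw [List.map_cons, List.map_nil, List.prod_cons, List.prod_nil, mul_one, h6.eq] at h8
  have h9 : xG hE7 c ((1 : k) ^ 1 * 1 ^ 1) = 1 := by
    have := mul_left_cancel (a := xG hE7 s (1 : k) * xG hE7 (r 0) 1) (b := 1) (c := xG hE7 c ((1 : k) ^ 1 * 1 ^ 1))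
      (by rw [mul_one]; exact h8)
    exact this.symm
  rw [xG_eq_one_iff hE7 (show c < chevE7.nroots from hc)] at h9
  simp at h9

theorem uuk_injective [Fintype K] (h4 : 4 ≤ Fintype.card K) (h : Orth r = true) (hne : uuk f h (up 1) ≠ 1) :
    Function.Injective (uuk f h) := by
  have hs : IsSimpleGroup SL(2, K) := H320.Kill.simple_sl (CharTwo.two_eq_zero) (by rwa [Nat.card_eq_fintype_card])
  rw [← MonoidHom.ker_eq_bot_iff]
  rcases hs.eq_bot_or_eq_top_of_normal _ (MonoidHom.normal_ker (uuk f h)) with h1 | h1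
  · exact h1
  · exact absurd (MonoidHom.mem_ker.1 (h1 ▸ Subgroup.mem_top (up 1))) hne

end Genk

end Cfsg.Agent.R2.E72T
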