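import Cfsg.Agent.R2.E72T.Tws
import Cfsg.Agent.Nodes.RGDFoldSL

/-!
# The pair homomorphism `g ↦ ψ_a(g) ψ_b(g^(2))` (S5934, box T)
-/

set_option autoImplicit false
set_option linter.unusedSectionVars false

namespace Cfsg.Agent.R2.E72T

open Cfsg.Lie Cfsg.Agent.ChevalleyStructure Cfsg.Agent.ChevalleyStructure.Elts
open Cfsg.Agent.ChevalleyStructure.StBasic
open Cfsg.Agent.ChevalleyStructure.SL2Hom (up lo mem_closure_SL2)
open Cfsg.Agent.Nodes.RGDFoldSL
open Cfsg.Agent.H420.PG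
open scoped MatrixGroups

universe u

section

variable {D : ChevalleyDatum} (hD : InList D) {K : Type u} [Field K] [CharP K 2]

/-- the Frobenius map -/
noncomputable abbrev fr2 (K : Type u) [Field K] [CharP K 2] : K →+* K := iterateFrobenius K 2 1

theorem fr2_apply (a : K) : fr2 K a = a ^ 2 := by
  rw [fr2, iterateFrobenius_def, pow_one]

theorem lt_of_okP {D : ChevalleyDatum} {a b : ℕ} (h : okP D a b = true) : a < D.nroots ∧ b < D.nroots := by
  unfold okP at h
  rw [Bool.and_eq_true] at h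
  exact lt_of_okB h.1

/-- the pair homomorphism -/
noncomputable def pp {a b : ℕ} (h : okP D a b = true) : SL(2, K) →* GL D.Idx K where
  toFun g := psi hD K a g * psi hD K b (Matrix.SpecialLinearGroup.map (fr2 K) g)
  map_one' := by rw [map_one, map_one, map_one, mul_one]
  map_mul' g g' := by
    have h1 := psi_comm_psi (F := K) hD h g' (Matrix.SpecialLinearGroup.map (fr2 K) g)
    rw [map_mul, map_mul, map_mul]
    calc _ = psi hD K a g * (psi hD K a g' * psi hD K b (Matrix.SpecialLinearGroup.map (fr2 K) g)) *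
          psi hD K b (Matrix.SpecialLinearGroup.map (fr2 K) g') := by group
      _ = _ := by rw [h1.eq]; group

variable {hD} {a b : ℕ} (h : okP D a b = true)

theorem pp_up (t : K) : pp hD h (up t) = xG hD a t * xG hD b (t ^ 2) := by
  have hl := lt_of_okP h
  show psi hD K a (up t) * psi hD K b (Matrix.SpecialLinearGroup.map (fr2 K) (up t)) = _
  rw [map_up, psi_up hD hl.1, psi_up hD hl.2, fr2_apply]

theorem pp_lo (t : K) : pp hD h (lo t) = xG hD (D.neg a) t * xG hD (D.neg b) (t ^ 2) := by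
  have hl := lt_of_okP h
  show psi hD K a (lo t) * psi hD K b (Matrix.SpecialLinearGroup.map (fr2 K) (lo t)) = _
  rw [map_lo, psi_lo hD hl.1, psi_lo hD hl.2, fr2_apply]

theorem pp_hS (t : K) : pp hD h (hS t) = hG hD a t * hG hD b (t ^ 2) := by
  have hl := lt_of_okP h
  show psi hD K a (hS t) * psi hD K b (Matrix.SpecialLinearGroup.map (fr2 K) (hS t)) = _
  rw [map_hS, psi_hS hD hl.1, psi_hS hD hl.2, fr2_apply]

end

section St

variable {D₀ : ChevalleyDatum} {K : Type u} [Field K]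

/-- `x_a(t) x_b(t²)` -/
noncomputable def uab (D₀ : ChevalleyDatum) (a b : ℕ) (t : K) : D₀.SteinbergGroup K := wd D₀ [(a, t), (b, t ^ 2)]

/-- the torus element in the Steinberg group -/
noncomputable def hab (D₀ : ChevalleyDatum) (a b a' b' : ℕ) (t : K) : D₀.SteinbergGroup K :=
  uab D₀ a b t * (uab D₀ a' b' (-t⁻¹) * uab D₀ a b t) *
    (uab D₀ a b (-1) * (uab D₀ a' b' (-(-1)⁻¹) * uab D₀ a b (-1)))

theorem uab_eq (a b : ℕ) (t : K) : uab D₀ a b t = D₀.stGen K a t * D₀.stGen K b (t ^ 2) := by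
  rw [uab, wd_cons, wd_singleton]

variable [CharP K 2] {D : ChevalleyDatum} {hD : InList D} {Ξ : D₀.SteinbergGroup K →* GL D.Idx K}
  {a b a' b' c d : ℕ}

theorem map_hab (h : okP D c d = true) (ha : ∀ t, Ξ (D₀.stGen K a t) = xG hD c t)
    (hb : ∀ t, Ξ (D₀.stGen K b t) = xG hD d t) (ha' : ∀ t, Ξ (D₀.stGen K a' t) = xG hD (D.neg c) t)
    (hb' : ∀ t, Ξ (D₀.stGen K b' t) = xG hD (D.neg d) t) (t : K) :
    Ξ (hab D₀ a b a' b' t) = hG hD c t * hG hD d (t ^ 2) := by
  have e1 : ∀ t, Ξ (uab D₀ a b t) = pp hD h (up t) := by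
    intro t
    rw [pp_up, uab_eq, map_mul, ha, hb]
  have e2 : ∀ t, Ξ (uab D₀ a' b' t) = pp hD h (lo t) := by
    intro t
    rw [pp_lo, uab_eq, map_mul, ha', hb']
  rw [← pp_hS h, hab, map_mul, map_mul, map_mul, map_mul, map_mul, e1, e1, e2, e2, ← map_mul, ← map_mul, ← map_mul,
    ← map_mul, ← map_mul]
  rfl

end St

end Cfsg.Agent.R2.E72T
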