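import Cfsg.Agent.R2.E72T.Gen
import Cfsg.Agent.H194.Pw.Six

/-!
# `U₈(2)` in `E₇(2)`: the table of the subsystem `A₇` (S5934, box T5)
-/

set_option autoImplicit false

namespace Cfsg.Agent.R2.E72T

open Cfsg.Lie Cfsg.Agent.ChevalleyStructure Cfsg.Agent.ChevalleyStructure.Elts
  Cfsg.Agent.Nodes.RGDChev Cfsg.Agent.KFacts.RgdChevCoord
open Cfsg.Agent.TitsThree.KExcRT

universe u

/-- roots of the subsystem `A₇` -/
def r8 : Fin 8 → Fin 8 → ℕ :=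
  ![![0, 0, 1, 2, 3, 4, 5, 6], ![125, 0, 93, 94, 95, 96, 97, 98], ![124, 32, 0, 73, 74, 75, 76, 77],
    ![123, 31, 52, 0, 69, 70, 71, 72], ![122, 30, 51, 56, 0, 66, 67, 68], ![121, 29, 50, 55, 59, 0, 64, 65],
    ![120, 28, 49, 54, 58, 61, 0, 63], ![119, 27, 48, 53, 57, 60, 62, 0]]

/-- signs -/
def s8 : Fin 8 → Fin 8 → ℤ :=
  ![![1, 1, 1, 1, 1, 1, 1, 1], ![1, 1, 1, -1, 1, -1, 1, -1], ![1, 1, 1, 1, -1, 1, -1, 1],
    ![1, -1, 1, 1, 1, -1, 1, -1], ![1, 1, -1, 1, 1, 1, -1, 1], ![1, -1, 1, -1, 1, 1, 1, -1],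
    ![1, 1, -1, 1, -1, 1, 1, 1], ![1, -1, 1, -1, 1, -1, 1, 1]]

theorem rt8 : RTa chevE7 r8 ∧ RTb chevE7 r8 s8 ∧ RTc chevE7 r8 ∧ RTd s8 ∧ (∀ i j, s8 j i = s8 i j) ∧
    ∀ i j, i ≠ j → r8 j i = chevE7.neg (r8 i j) := by decide +kernel

/-- the homomorphism of `SL₈(K)` -/
theorem exists_phi8 (K : Type u) [Field K] [CharP K 2] :
    ∃ φ : Matrix.SpecialLinearGroup (Fin 8) K →* ↥(chevE7.group K), ∀ a b (hab : a ≠ b) c,
      ((φ (Matrix.SpecialLinearGroup.transvection hab c) : ↥(chevE7.group K)) : GL chevE7.Idx K) =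
        xG hp7.inList (r8 a b) c := by
  obtain ⟨h1, h2, h3, h4, h5, h6⟩ := rt8
  obtain ⟨φ, hφ⟩ := Cfsg.Agent.H194.Pw.exists_hom_S (K := K) hp7 h1 h2 h3 h4 h5 h6
  refine ⟨φ, fun a b hab c => ?_⟩
  rw [hφ a b hab c, coe_xc hp7 (h1 a b hab)]
  congr 1
  have h7 : s8 a b = 1 ∨ s8 a b = -1 := mul_self_eq_one_iff.1 (h4 a b)
  rcases h7 with h | h
  · rw [h, Int.cast_one, one_mul]
  · rw [h, Int.cast_neg, Int.cast_one, CharTwo.neg_eq, one_mul]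

end Cfsg.Agent.R2.E72T
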