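import Cfsg.Agent.R2.E72T.TorTab

/-!
# Torus elements of `E₇(K)`, `K` finite of characteristic 2 (S5934, box T)

`hG_conj7` : `h_r(a)` multiplies the coordinate of `x_s` by `a ^ ⟨s, r⟩`, for all roots `r`, `s`.
-/

set_option autoImplicit false
set_option linter.unusedSectionVars false

namespace Cfsg.Agent.R2.E72T

open CoxeterSystem Cfsg.Agent.ChevalleyStructure.CoxeterGeom Cfsg.Agent.Tits.Roots Cfsg.Agent.Tits.Core
  Cfsg.Agent.Nodes.Reps Cfsg.Agent.Nodes.BNOf Cfsg.Agent.Nodes.Coroot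
open Cfsg.Lie Cfsg.Agent.ChevalleyStructure Cfsg.Agent.ChevalleyStructure.Elts
  Cfsg.Agent.ChevalleyStructure.CoxeterGeomTypes
open Cfsg.Agent.Nodes.RGDFoldSL Cfsg.Agent.Nodes.RGDChev
open Cfsg.Agent.KFacts.RgdChevCoord
open Cfsg.Agent.KFacts.RgdField (Coords Coord)
open Cfsg.Agent.H129.TorusChar (cX isMC_cX cX_vec cX_inj IsMC)
open Cfsg.Agent.H420.PG
open Cfsg.Agent.ChevalleyStructure.BruhatSplit (hG_simple_conj)
open Cfsg.Agent.ChevalleyStructure.NPerm (simple_lt)
open scoped MatrixGroups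

universe u

section K

variable {K : Type u} [Field K] [Finite K] [CharP K 2]

/-- a property of roots closed under the reflections -/
theorem root_induction {p : ℕ → Prop} (h0 : ∀ i : Fin 7, p (chevE7.simple i))
    (h1 : ∀ j : Fin 7, ∀ r < 126, p r → p (chevE7.reflectRoot j r)) {r : ℕ} (hr : r < 126) : p r := by
  obtain ⟨w, i, hw⟩ := isRoot7 hr
  obtain ⟨ω, rfl⟩ := cE.wordProd_surjective w
  induction ω generalizing r with
  | nil =>
    rw [wordProd_nil, map_one, Module.End.one_apply, ← vec_simple hp7 i] at hw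
    have h2 := vec_inj hp7 (show r < chevE7.nroots from hr) (simple_lt hp7.inList (lt_rank hp7 i)) hw
    rw [h2]
    exact h0 i
  | cons j ω ih =>
    have h2 : vec chevE7 7 (chevE7.reflectRoot j r) = rep cE hCE (cE.wordProd ω) (sr i) := by
      rw [← rep_vec hp7 cE j (show r < chevE7.nroots from hr), hw, wordProd_cons, rep_mul_apply]
      rw [← rep_mul_apply, simple_mul_simple_self, map_one, Module.End.one_apply]
    have h3 := h1 j _ (refl_lt7 j j.2 r hr) (ih (refl_lt7 j j.2 r hr) h2)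
    rwa [refl_refl7 j j.2 r hr] at h3

theorem pr7_refl (j : Fin 7) {r s : ℕ} (hr : r < 126) (hs : s < 126) :
    pr7 (chevE7.reflectRoot j s) r = pr7 s (chevE7.reflectRoot j r) := by
  rw [← cpr7 hr, ← cpr7 (refl_lt7 j j.2 r hr), ← rep_vec hp7 cE j (show s < chevE7.nroots from hs),
    ← rep_vec hp7 cE j (show r < chevE7.nroots from hr)]
  have h1 := cpr_rep cE hCE (cE.simple j) (rep cE hCE (cE.simple j) (vec chevE7 7 s)) (isRoot7 hr)
  rw [← h1, ← rep_mul_apply, simple_mul_simple_self, map_one, Module.End.one_apply]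

theorem nG_conj_hG (j : Fin 7) {r : ℕ} (hr : r < 126) (a : K) :
    nG hE7 (chevE7.simple j) 1 * hG hE7 r a * (nG hE7 (chevE7.simple j) 1)⁻¹ = hG hE7 (chevE7.reflectRoot j r) a := by
  have hj : (j : ℕ) < chevE7.rank := lt_rank hp7 j
  have h1 := tsig_psi (F := K) (φ := RingHom.id K)
    (σ := (MulAut.conj (nG hE7 (chevE7.simple j) (1 : K))).toMonoidHom)
    (ρ := chevE7.reflectRoot j) hE7 (show r < chevE7.nroots from hr)
    (refl_lt7 j j.2 r hr) (refl_neg7 j j.2 r hr).symm
    (fun t => nG_conj_two hE7 hj (show r < chevE7.nroots from hr) t)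
    (fun t => nG_conj_two hE7 hj (show chevE7.neg r < chevE7.nroots from neg_lt7 hr) t) (hS a)
  rw [map_hS, RingHom.id_apply, psi_hS hE7 (show r < chevE7.nroots from hr),
    psi_hS hE7 (show chevE7.reflectRoot j r < chevE7.nroots from refl_lt7 j j.2 r hr)] at h1
  exact h1

/-- **The action of `h_r(a)`.** -/
theorem hG_conj7 {r : ℕ} (hr : r < 126) {a : K} (ha : a ≠ 0) : ∀ s < 126, ∀ t : K,
    hG hE7 r a * xG hE7 s t * (hG hE7 r a)⁻¹ = xG hE7 s (a ^ pr7 s r * t) := by
  refine root_induction (p := fun r => ∀ s < 126, ∀ t : K,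
    hG hE7 r a * xG hE7 s t * (hG hE7 r a)⁻¹ = xG hE7 s (a ^ pr7 s r * t)) (fun i s hs t => ?_)
    (fun j r hr ih s hs t => ?_) hr
  · rw [hG_simple_conj hE7 (lt_rank hp7 i) (show s < chevE7.nroots from hs) ha]
    congr 3
    have h1 := cpr7 (r := s) (simple_lt hp7.inList (lt_rank hp7 i))
    rw [← h1, vec_simple hp7, cpr_sr, pairing_vec hp7 i (show s < chevE7.nroots from hs)]
  · rw [← nG_conj_hG j hr, ← pr7_refl j hr hs]
    have hj : (j : ℕ) < chevE7.rank := lt_rank hp7 j
    have h1 := ih (chevE7.reflectRoot j s) (refl_lt7 j j.2 s hs) t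
    have h2 := nG_conj_two (F := K) hE7 hj (show chevE7.reflectRoot j s < chevE7.nroots from refl_lt7 j j.2 s hs) t
    have h3 := nG_conj_two (F := K) hE7 hj (show chevE7.reflectRoot j s < chevE7.nroots from refl_lt7 j j.2 s hs)
      (a ^ pr7 (chevE7.reflectRoot j s) r * t)
    rw [refl_refl7 j j.2 s hs] at h2 h3
    rw [← h3, ← h1, ← h2]
    group

end K

end Cfsg.Agent.R2.E72T
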