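import Cfsg.Agent.R2.E72T.Cent

/-!
# Tables for the simple reflections of `E₇` (S5934, box T)
-/

set_option autoImplicit false

namespace Cfsg.Agent.R2.E72T

open Cfsg.Lie

theorem refl_neg7 : ∀ j < 7, ∀ r < 126, chevE7.reflectRoot j (chevE7.neg r) = chevE7.neg (chevE7.reflectRoot j r) := by
  decide +kernel

theorem refl_lt7 : ∀ j < 7, ∀ r < 126, chevE7.reflectRoot j r < 126 := by
  decide +kernel

theorem refl_refl7 : ∀ j < 7, ∀ r < 126, chevE7.reflectRoot j (chevE7.reflectRoot j r) = r := by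
  decide +kernel

end Cfsg.Agent.R2.E72T
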