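import Cfsg.Agent.R2.E72T.Sub

/-!
# Twisted subgroups of the Steinberg groups (S5934, box T)
-/

set_option autoImplicit false
set_option linter.unusedSectionVars false

namespace Cfsg.Agent.R2.E72T

open Cfsg.Lie Cfsg.Agent.ChevalleyStructure Cfsg.Agent.ChevalleyStructure.Elts
open Cfsg.Agent.ChevalleyStructure.StBasic
open Cfsg.Agent.H420.PG

universe u v

section

variable {D₀ : ChevalleyDatum} (hD₀ : InList D₀) {K : Type v} [Field K] (S : Set (List (ℕ × K)))

/-- the subgroup of the Steinberg group generated by a set of words -/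
def stS (D₀ : ChevalleyDatum) (S : Set (List (ℕ × K))) : Subgroup (D₀.SteinbergGroup K) :=
  Subgroup.closure {g | ∃ w ∈ S, g = wd D₀ w}

theorem thetaGL_wd (w : List (ℕ × K)) : StTheta.thetaGL hD₀ K (wd D₀ w) = wordG hD₀ w := by
  rw [map_wd]
  show _ = (w.map fun p => xG hD₀ p.1 p.2).prod
  congr 1
  exact List.map_congr_left fun p _ => StTheta.thetaGL_stGen hD₀ p.1 p.2

theorem map_stS : (stS D₀ S).map (StTheta.thetaGL hD₀ K) = D₀.genSubgroup K S := by
  unfold stS ChevalleyDatum.genSubgroup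
  rw [MonoidHom.map_closure]
  congr 1
  ext g
  constructor
  · rintro ⟨_, ⟨w, hw, rfl⟩, rfl⟩
    exact ⟨w, hw, by rw [thetaGL_wd, coe_wordG]⟩
  · rintro ⟨w, hw, hg⟩
    refine ⟨wd D₀ w, ⟨w, hw, rfl⟩, ?_⟩
    apply Units.ext
    rw [thetaGL_wd, coe_wordG, hg]

/-- the restriction of an injective `θ` to the twisted subgroup -/
noncomputable def stSEquiv (h : Function.Injective (StTheta.thetaGL hD₀ K)) : ↥(stS D₀ S) ≃* ↥(D₀.genSubgroup K S) :=
  ((stS D₀ S).equivMapOfInjective _ h).trans (MulEquiv.subgroupCongr (map_stS hD₀ S))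

theorem fix_stS {G : Type*} [Group G] {Θ : D₀.SteinbergGroup K →* G} {σ : G →* G}
    (h : ∀ w ∈ S, σ (Θ (wd D₀ w)) = Θ (wd D₀ w)) {x : D₀.SteinbergGroup K} (hx : x ∈ stS D₀ S) :
    σ (Θ x) = Θ x := by
  have h1 : stS D₀ S ≤ (σ.comp Θ).eqLocus Θ := by
    unfold stS
    rw [Subgroup.closure_le]
    rintro _ ⟨w, hw, rfl⟩
    exact h w hw
  exact h1 hx

end

section Hom

variable {D₀ D : ChevalleyDatum} {τ : ℕ → ℕ} (h : SubOK D₀ D τ) (hD : InList D)
  {K : Type v} [Field K] [CharP K 2] {k : Type u} [Field k] [CharP k 2] (f : K →+* k)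

theorem subHom_wd {w : List (ℕ × K)} (hw : ∀ p ∈ w, p.1 < D₀.nroots) :
    subHom h hD f (wd D₀ w) = (w.map fun p => xG hD (τ p.1) (f p.2)).prod := by
  rw [map_wd]
  congr 1
  exact List.map_congr_left fun p hp => subHom_stGen h hD f (hw p hp) p.2

/-- a homomorphism of a group with simple central quotient whose image is not abelian: the kernel is central -/
theorem ker_le_center {X G : Type*} [Group X] [Group G] (hs : IsSimpleGroup (X ⧸ Subgroup.center X)) {Θ : X →* G}
    {a b : X} (hab : Θ a * Θ b ≠ Θ b * Θ a) : Θ.ker ≤ Subgroup.center X := by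
  have hn : (Θ.ker.map (QuotientGroup.mk' (Subgroup.center X))).Normal :=
    Subgroup.Normal.map inferInstance _ (QuotientGroup.mk'_surjective _)
  rcases hs.eq_bot_or_eq_top_of_normal _ hn with h1 | h1
  · intro x hx
    have h2 : QuotientGroup.mk' (Subgroup.center X) x ∈ Θ.ker.map (QuotientGroup.mk' (Subgroup.center X)) := ⟨x, hx, rfl⟩
    rw [h1, Subgroup.mem_bot] at h2
    exact (QuotientGroup.eq_one_iff x).1 h2
  · exfalso
    have h2 : QuotientGroup.mk' (Subgroup.center X) a ∈ Θ.ker.map (QuotientGroup.mk' (Subgroup.center X)) := by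
      rw [h1]; exact Subgroup.mem_top _
    obtain ⟨y, hy, hya⟩ := h2
    have h3 : y⁻¹ * a ∈ Subgroup.center X := QuotientGroup.eq.1 hya
    have h4 : Θ (y⁻¹ * a) = Θ a := by rw [map_mul, map_inv, MonoidHom.mem_ker.1 hy, inv_one, one_mul]
    apply hab
    rw [← h4, ← map_mul, ← map_mul, (Subgroup.mem_center_iff.1 h3 b)]

end Hom

end Cfsg.Agent.R2.E72T
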